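import Groth.Agent.SyntLCI.KoszulLocal
import Groth.Agent.KoszulExt.MinLength
import Mathlib

/-!
# The equations of an affine chart of a blowing-up in a Koszul-regular ideal
-/

set_option autoImplicit false

noncomputable section

universe u

open TensorProduct RingTheory.Sequence

namespace Groth.Agent.BlowPerfect

open KoszulExt

section Cons

variable {P : Type u} [CommRing P] {m : ℕ}

theorem algebraMap_injective (n : ℕ) : Function.Injective (algebraMap P (ExteriorAlgebra P (Fin n → P))) :=
  fun x y h => by simpa using congrArg ExteriorAlgebra.algebraMapInv h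

theorem algebraMap_mem (n : ℕ) (r : P) : algebraMap P (ExteriorAlgebra P (Fin n → P)) r ∈ G P n 0 := by
  rw [G, ExteriorAlgebra.exteriorPower, pow_zero, Submodule.one_eq_range]
  exact ⟨r, rfl⟩

theorem ι_mem (n : ℕ) (v : Fin n → P) : ExteriorAlgebra.ι P v ∈ G P n 1 := by
  rw [G, ExteriorAlgebra.exteriorPower, pow_one]
  exact LinearMap.mem_range_self _ _

theorem exists_ι_eq (n : ℕ) {z : ExteriorAlgebra P (Fin n → P)} (hz : z ∈ G P n 1) :
    ∃ v, ExteriorAlgebra.ι P v = z := by
  rw [G, ExteriorAlgebra.exteriorPower, pow_one] at hz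
  exact hz

/-- In a Koszul-regular sequence the first element is regular modulo the others. -/
theorem mem_of_mul_mem {f : Fin (m + 1) → P} (hf : IsExact f) (x : P)
    (hx : f 0 * x ∈ Ideal.span (Set.range fun i : Fin m => f i.succ)) : x ∈ Ideal.span (Set.range fun i : Fin m => f i.succ) := by
  obtain ⟨v, hv⟩ := Ideal.mem_span_range_iff_exists_fun.1 hx
  rw [isExact_iff, isKoszulRegularSeq_iff] at hf
  have hc : ct f (split (ExteriorAlgebra.ι P v, algebraMap P _ (-x))) = 0 := by
    rw [ct_split, ct_ι, ct_algebraMap, neg_zero, hv, Algebra.smul_def, ← map_mul, ← map_add,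
      show f 0 * x + f 0 * -x = 0 by ring, map_zero]
    exact map_zero _
  obtain ⟨y, hy, hyz⟩ := hf 0 _ (split_mem (ι_mem m v) (algebraMap_mem m _)) hc
  obtain ⟨p, q, hp, hq, rfl⟩ := exists_split hy
  rw [if_neg (Nat.succ_ne_zero _)] at hq
  rw [ct_split] at hyz
  obtain ⟨w, rfl⟩ := exists_ι_eq m hq
  have h2 := (Prod.ext_iff.1 (split_injective hyz)).2
  simp only [ct_ι, ← map_neg] at h2
  exact Ideal.mem_span_range_iff_exists_fun.2 ⟨w, neg_injective (algebraMap_injective m h2)⟩

/-- The Koszul homology of the other elements has no torsion for the first one. -/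
theorem exists_of_smul {f : Fin (m + 1) → P} (hf : IsExact f) {k : ℕ} {z w : ExteriorAlgebra P (Fin m → P)}
    (hz : z ∈ G P m (k + 1)) (hz0 : ct (fun i => f i.succ) z = 0) (hw : w ∈ G P m (k + 2))
    (hwz : ct (fun i => f i.succ) w = f 0 • z) : ∃ y ∈ G P m (k + 2), ct (fun i => f i.succ) y = z := by
  rw [isExact_iff, isKoszulRegularSeq_iff] at hf
  have hc : ct f (split (w, -z)) = 0 := by
    rw [ct_split, hwz, map_neg, hz0, smul_neg, add_neg_cancel, neg_zero, neg_zero]
    exact map_zero _
  obtain ⟨y, hy, hyz⟩ := hf (k + 1) _ (split_mem hw (neg_mem hz)) hc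
  obtain ⟨p, q, hp, hq, rfl⟩ := exists_split hy
  rw [if_neg (Nat.succ_ne_zero _)] at hq
  rw [ct_split] at hyz
  have h2 := (Prod.ext_iff.1 (split_injective hyz)).2
  exact ⟨q, hq, neg_injective h2⟩

theorem exists_of_pow_smul {f : Fin (m + 1) → P} (hf : IsExact f) {k : ℕ} : ∀ (N : ℕ) {z w : ExteriorAlgebra P (Fin m → P)},
    z ∈ G P m (k + 1) → ct (fun i => f i.succ) z = 0 → w ∈ G P m (k + 2) →
    ct (fun i => f i.succ) w = f 0 ^ N • z → ∃ y ∈ G P m (k + 2), ct (fun i => f i.succ) y = z
  | 0, _, w, _, _, hw, hwz => ⟨w, hw, by rw [hwz, pow_zero, one_smul]⟩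
  | N + 1, z, w, hz, hz0, hw, hwz => by
    obtain ⟨y, hy, hyz⟩ := exists_of_smul hf (Submodule.smul_mem _ (f 0 ^ N) hz) (by rw [map_smul, hz0, smul_zero]) hw
      (by rw [hwz, smul_smul, pow_succ'])
    exact exists_of_pow_smul hf N hz hz0 hy hyz

/-- The other elements are Koszul regular if they are after inverting the first one. -/
theorem isExact_of_cons {f : Fin (m + 1) → P} (hf : IsExact f) (B : Type u) [CommRing B] [Algebra P B]
    [IsLocalization (Submonoid.powers (f 0)) B]
    (hB : IsExact fun i : Fin m => algebraMap P (P ⊗[P] B) (f i.succ)) : IsExact fun i : Fin m => f i.succ := by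
  set t := fun i : Fin m => f i.succ with ht
  intro k z
  refine ⟨fun hz => ?_, fun ⟨y, hy⟩ => hy ▸ dk_dk t k y⟩
  let Q := G P m (k + 1) ⧸ LinearMap.range (dk t (k + 1))
  let zb : Q := Submodule.Quotient.mk z
  have hcomm : ∀ j (w : B ⊗[P] G P m (j + 1)),
      dk (fun i => algebraMap P (P ⊗[P] B) (t i)) j (nu P B (j + 1) w) = nu P B j ((dk t j).lTensor B w) := by
    intro j w
    induction w using TensorProduct.induction_on with
    | zero => simp
    | add a b ha hb => simp only [map_add, ha, hb]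
    | tmul b x =>
      refine Subtype.ext ?_
      rw [dk_coe, nu_tmul, LinearMap.lTensor_tmul, nu_tmul, map_smul, ct_sigma]
      rfl
  have h0 : dk (fun i => algebraMap P (P ⊗[P] B) (t i)) k (nu P B (k + 1) ((1 : B) ⊗ₜ z)) = 0 := by
    rw [hcomm, LinearMap.lTensor_tmul, hz, TensorProduct.tmul_zero, map_zero]
  obtain ⟨y, hy⟩ := (hB k _).1 h0
  obtain ⟨w, rfl⟩ := (nu_bijective (P := P) (n := m) (A := P) (B := B) (k + 2)).2 y
  rw [hcomm] at hy
  have h4 := (nu_bijective (P := P) (n := m) (A := P) (B := B) (k + 1)).1 hy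
  have h5 : (TensorProduct.mk P B Q 1) zb = 0 := by
    show ((1 : B) ⊗ₜ[P] zb) = 0
    rw [show ((1 : B) ⊗ₜ[P] zb) = (LinearMap.range (dk t (k + 1))).mkQ.lTensor B ((1 : B) ⊗ₜ z) from rfl,
      ← h4, ← LinearMap.comp_apply, ← LinearMap.lTensor_comp,
      show (LinearMap.range (dk t (k + 1))).mkQ ∘ₗ dk t (k + 1) = 0 from
        LinearMap.ext fun x => (Submodule.Quotient.mk_eq_zero _).2 ⟨x, rfl⟩, LinearMap.lTensor_zero]
    rfl
  obtain ⟨⟨s, N, rfl⟩, hs0⟩ := (IsLocalizedModule.eq_zero_iff (Submonoid.powers (f 0)) (TensorProduct.mk P B Q 1)).1 h5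
  obtain ⟨x, hx⟩ := (Submodule.Quotient.mk_eq_zero _).1
    (show (Submodule.Quotient.mk (f 0 ^ N • z) : Q) = 0 from hs0)
  obtain ⟨y, hy, hyz⟩ := exists_of_pow_smul hf N z.2 (congrArg Subtype.val hz) x.2 (congrArg Subtype.val hx)
  exact ⟨⟨y, hy⟩, Subtype.ext hyz⟩

end Cons

section Chart

open MvPolynomial

attribute [local instance] MvPolynomial.algebraMvPolynomial

variable {A : Type u} [CommRing A] {m : ℕ} (a : Fin (m + 1) → A)

/-- The equations `a₀ Xⱼ - aⱼ`. -/
def eqn (j : Fin m) : MvPolynomial (Fin m) A := C (a 0) * X j - C (a j.succ)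

theorem isExact_cons_eqn (h : IsExact fun i => (C (a i) : MvPolynomial (Fin m) A)) :
    IsExact (Fin.cons (C (a 0)) (eqn a) : Fin (m + 1) → MvPolynomial (Fin m) A) := by
  classical
  let c : Matrix (Fin (m + 1)) (Fin (m + 1)) (MvPolynomial (Fin m) A) :=
    Matrix.of (Fin.cons (Pi.single 0 1) fun j => Fin.cons (X j) (-Pi.single j 1))
  refine h.of_matrix c (fun i => ?_) ?_
  · cases i using Fin.cases with
    | zero => simp [c, Fin.sum_univ_succ]
    | succ j => simp [c, Fin.sum_univ_succ, eqn, Pi.single_apply]; ring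
  · have htri : c.BlockTriangular OrderDual.toDual := fun i j hij => by
      have hij : i < j := hij
      cases i using Fin.cases with
      | zero => simp [c, hij.ne']
      | succ i =>
        cases j using Fin.cases with
        | zero => exact absurd hij (Fin.not_lt_zero _)
        | succ j => simp [c, (Fin.succ_lt_succ_iff.1 hij).ne']
    have hu : IsUnit c.det := by
      rw [Matrix.det_of_lowerTriangular c htri, IsUnit.prod_univ_iff]
      intro i
      cases i using Fin.cases <;> simp [c]
    rw [Ideal.span_singleton_eq_top.2 hu, sup_top_eq]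

variable {L : Type u} [CommRing L] [Algebra A L] [IsLocalization.Away (a 0) L]

variable (L) in
/-- `aⱼ/a₀`. -/
def frac (j : Fin m) : L := IsLocalization.mk' L (a j.succ) (⟨a 0, Submonoid.mem_powers _⟩ : Submonoid.powers (a 0))

theorem isWeaklyRegular_X_sub {S : Type u} [CommRing S] (u : Fin m → S) (c : Fin m → MvPolynomial (Fin m) S)
    (hc : ∀ j, IsUnit (c j)) : IsWeaklyRegular (MvPolynomial (Fin m) S) (List.ofFn fun j => c j * (X j - C (u j))) := by
  classical
  rw [S2189.weaklyRegular_iff]
  intro j w hw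
  set J := Ideal.span ((fun j => c j * (X j - C (u j))) '' Set.Iio j) with hJ
  have hmem : ∀ i < j, X i - C (u i) ∈ J := fun i hi =>
    (Ideal.unit_mul_mem_iff_mem _ (hc i)).1 (Ideal.subset_span ⟨i, hi, rfl⟩)
  let σ : MvPolynomial (Fin m) S →ₐ[S] MvPolynomial (Fin m) S := aeval fun i => if i < j then C (u i) else X i
  have hσJ : J ≤ RingHom.ker σ.toRingHom := Ideal.span_le.2 (by
    rintro _ ⟨i, hi, rfl⟩
    show σ _ = 0
    simp [σ, show i < j from hi])
  have hσw : ∀ x, x - σ x ∈ J := fun x => by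
    rw [← Ideal.Quotient.eq]
    refine DFunLike.congr_fun (?_ : Ideal.Quotient.mkₐ S J = (Ideal.Quotient.mkₐ S J).comp σ) x
    refine MvPolynomial.algHom_ext fun i => ?_
    show Ideal.Quotient.mk J (X i) = Ideal.Quotient.mk J (σ (X i))
    by_cases hi : i < j
    · rw [Ideal.Quotient.eq]
      simpa [σ, hi] using hmem i hi
    · simp [σ, hi]
  have h1 : σ ((c j * (X j - C (u j))) * w) = 0 := hσJ hw
  have h2 : σ w = 0 := by
    let τ : MvPolynomial (Fin m) S →ₐ[S] MvPolynomial (Fin m) S :=
      aeval fun i => if i = j then X i + C (u i) else X i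
    let τ' : MvPolynomial (Fin m) S →ₐ[S] MvPolynomial (Fin m) S :=
      aeval fun i => if i = j then X i - C (u i) else X i
    have hττ : τ'.comp τ = AlgHom.id S _ := MvPolynomial.algHom_ext fun i => by
      by_cases hi : i = j <;> simp [τ, τ', hi]
    have hττa : ∀ x, τ' (τ x) = x := DFunLike.congr_fun hττ
    simp only [map_mul, map_sub] at h1
    rw [mul_assoc, ((hc j).map σ).mul_right_eq_zero] at h1
    have h3 := congrArg τ h1
    simp only [map_mul, map_sub, map_zero, σ, τ, aeval_X, aeval_C, MvPolynomial.algebraMap_eq, lt_irrefl, if_false,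
      if_true, add_sub_cancel_right] at h3
    have h4 : τ (σ w) = 0 := (MvPolynomial.isRegular_X (n := j)).left (h3.trans (mul_zero _).symm)
    rw [← hττa (σ w), h4, map_zero]
  simpa [h2] using hσw w

theorem map_eqn (j : Fin m) :
    map (algebraMap A L) (eqn a j) = C (algebraMap A L (a 0)) * (X j - C (frac a L j)) := by
  have h : algebraMap A L (a 0) * frac a L j = algebraMap A L (a j.succ) :=
    IsLocalization.mk'_spec' L (a j.succ) (⟨a 0, Submonoid.mem_powers _⟩ : Submonoid.powers (a 0))
  rw [eqn, map_sub, map_mul, map_C, map_X, map_C, mul_sub, ← C_mul, h]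

theorem isExact_eqn (h : IsExact fun i => (C (a i) : MvPolynomial (Fin m) A)) : IsExact (eqn a) := by
  let L' := Localization.Away (a 0)
  have : IsLocalization (Submonoid.powers ((Fin.cons (C (a 0)) (eqn a) : Fin (m + 1) → MvPolynomial (Fin m) A) 0))
      (MvPolynomial (Fin m) L') := by
    have h1 := MvPolynomial.isLocalization (σ := Fin m) (Submonoid.powers (a 0)) L'
    rw [Submonoid.map_powers] at h1
    simpa using h1
  have := isExact_of_cons (isExact_cons_eqn a h) (MvPolynomial (Fin m) L') (by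
    refine SyntLCI.isExact_tensor_of_isWeaklyRegular (fun j => (Fin.cons (C (a 0)) (eqn a) : Fin (m + 1) → MvPolynomial (Fin m) A) j.succ) ?_
    simp only [Fin.cons_succ, MvPolynomial.algebraMap_def, map_eqn a (L := L')]
    exact isWeaklyRegular_X_sub _ _ fun _ => (IsLocalization.Away.algebraMap_isUnit (a 0)).map C)
  simpa using this

theorem ker_aeval_frac (h : IsExact fun i => (C (a i) : MvPolynomial (Fin m) A)) :
    RingHom.ker (aeval (R := A) (frac a L) : MvPolynomial (Fin m) A →ₐ[A] L) = Ideal.span (Set.range (eqn a)) := by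
  classical
  refine le_antisymm (fun x hx => ?_) (Ideal.span_le.2 ?_)
  · have h1 := MvPolynomial.isLocalization (σ := Fin m) (Submonoid.powers (a 0)) L
    rw [Submonoid.map_powers] at h1
    have hmem : ∀ j, X j - C (frac a L j) ∈ (Ideal.span (Set.range (eqn a))).map (algebraMap _ (MvPolynomial (Fin m) L)) := fun j => by
      refine (Ideal.unit_mul_mem_iff_mem _ ((IsLocalization.Away.algebraMap_isUnit (a 0)).map (C : L →+* MvPolynomial (Fin m) L))).1 ?_
      rw [← map_eqn]
      exact Ideal.mem_map_of_mem _ (Ideal.subset_span ⟨j, rfl⟩)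
    have h2 : algebraMap _ (MvPolynomial (Fin m) L) x ∈ (Ideal.span (Set.range (eqn a))).map (algebraMap _ _) := by
      rw [← Ideal.Quotient.eq_zero_iff_mem]
      have h3 : (Ideal.Quotient.mkₐ L ((Ideal.span (Set.range (eqn a))).map (algebraMap _ (MvPolynomial (Fin m) L)))) =
          ((Ideal.Quotient.mkₐ L _).comp (Algebra.ofId L _)).comp (aeval (frac a L)) :=
        MvPolynomial.algHom_ext fun j => by
          show Ideal.Quotient.mk _ (X j) = _
          simp only [AlgHom.comp_apply, aeval_X]
          exact (Ideal.Quotient.eq).2 (hmem j)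
      refine (DFunLike.congr_fun h3 (algebraMap _ _ x)).trans ?_
      have h4 : aeval (frac a L) (algebraMap (MvPolynomial (Fin m) A) (MvPolynomial (Fin m) L) x) = aeval (R := A) (frac a L) x := by
        rw [MvPolynomial.algebraMap_def, MvPolynomial.aeval_map_algebraMap]
      rw [AlgHom.comp_apply, h4, show aeval (R := A) (frac a L) x = 0 from hx, map_zero]
    obtain ⟨s, ⟨N, rfl⟩, hsx⟩ := (IsLocalization.algebraMap_mem_map_algebraMap_iff (Submonoid.powers (C (a 0))) _ _ _).1 h2
    have hpow : ∀ (N : ℕ) (x : MvPolynomial (Fin m) A), C (a 0) ^ N * x ∈ Ideal.span (Set.range (eqn a)) →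
        x ∈ Ideal.span (Set.range (eqn a)) := by
      intro N
      induction N with
      | zero => intro x hx; simpa using hx
      | succ N ih =>
        intro x hx
        refine ih x ?_
        have h5 := mem_of_mul_mem (isExact_cons_eqn a h) (C (a 0) ^ N * x)
        simp only [Fin.cons_zero, Fin.cons_succ, ← mul_assoc, ← pow_succ'] at h5
        exact h5 hx
    exact hpow N x hsx
  · rintro _ ⟨j, rfl⟩
    show aeval (frac a L) (eqn a j) = 0
    simp [eqn, frac, IsLocalization.mk'_spec']

end Chart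

end Groth.Agent.BlowPerfect
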