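import Groth.Agent.BlowPerfect.Koszul
import Groth.Agent.BlowExist.Main
import Groth.Agent.PCHom.RegImm

/-!
# Blowing up a regular closed immersion gives a perfect morphism
-/

set_option autoImplicit false

noncomputable section

universe u

open CategoryTheory Limits AlgebraicGeometry TopologicalSpace

namespace Groth.Agent.BlowPerfect

attribute [local instance] HasDerivedCategory.standard

section Affine

variable {A : Type u} [CommRing A] (I : Ideal A)

/-- The charts of a generating family cover the blowing-up. -/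
theorem exists_mem_range_single {n : ℕ} (a : Fin n → A) (hI : Ideal.span (Set.range a) = I) (y : BlowExist.blow I) :
    ∃ (j : Fin n) (hj : a j ∈ I), y ∈ Set.range (BlowExist.ι I (BlowExist.Idx.single I hj)).base := by
  classical
  obtain ⟨S, x, rfl⟩ := BlowExist.jointly_surjective I y
  obtain ⟨s, hs⟩ := S.nonempty
  have ha : ∀ j, a j ∈ I := fun j => hI.le (Ideal.subset_span ⟨j, rfl⟩)
  obtain ⟨c, hc⟩ := Ideal.mem_span_range_iff_exists_fun.1 (hI.ge (S.subset hs))
  have hreg : IsRegular (algebraMap A (BlowExist.chart I S.carrier) s) :=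
    isRegular_iff_mem_nonZeroDivisors.2 (BlowExist.admits_chart I S.carrier s hs).1
  have h1 : ∑ j, algebraMap A (BlowExist.chart I S.carrier) (c j) * BlowExist.q I S.carrier hs (ha j) = 1 := by
    refine hreg.left ?_
    show algebraMap A (BlowExist.chart I S.carrier) s * _ = algebraMap A (BlowExist.chart I S.carrier) s * 1
    rw [mul_one, Finset.mul_sum]
    refine Eq.trans ?_ (congrArg (algebraMap A (BlowExist.chart I S.carrier)) hc)
    rw [map_sum]
    exact Finset.sum_congr rfl fun j _ => by rw [mul_left_comm, BlowExist.mul_q, map_mul]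
  obtain ⟨j, hj⟩ : ∃ j, BlowExist.q I S.carrier hs (ha j) ∉ x.asIdeal := by
    by_contra hne
    push Not at hne
    exact x.isPrime.ne_top (x.asIdeal.eq_top_iff_one.2 (h1 ▸ Ideal.sum_mem _ fun j _ => Ideal.mul_mem_left _ _ (hne j)))
  refine ⟨j, ha j, ?_⟩
  let U := BlowExist.Idx.union I S (BlowExist.Idx.single I (ha j))
  have hUS : U ≤ S := BlowExist.Idx.union_le_left I _ _
  have hUT : U ≤ BlowExist.Idx.single I (ha j) := BlowExist.Idx.union_le_right I _ _
  have hx : x ∈ Set.range ((BlowExist.diagram I).map (homOfLE hUS)).base := by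
    refine (BlowExist.mem_range_map I (homOfLE hUS) hs x).2 ?_
    intro hmem
    obtain ⟨⟨t, ht⟩, -, ht'⟩ := x.isPrime.prod_mem_iff.1 (show _ ∈ x.asIdeal from hmem)
    have ht2 : t ∈ S.carrier ∪ {a j} := ht
    rcases Finset.mem_union.1 ht2 with ht3 | ht3
    · refine x.isPrime.ne_top (Ideal.eq_top_of_isUnit_mem _ ht' ?_)
      exact IsUnit.of_mul_eq_one _ (BlowExist.q_mul_q I hs ht3 (S.subset hs) _)
    · obtain rfl := Finset.mem_singleton.1 ht3
      exact hj ht'
  obtain ⟨z, hz⟩ := hx
  refine ⟨(Spec.map (CommRingCat.ofHom (BlowExist.trans I hUT))).base z, ?_⟩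
  rw [← hz]
  show (Spec.map (CommRingCat.ofHom (BlowExist.trans I hUT)) ≫ BlowExist.ι I _).base z =
    (Spec.map (CommRingCat.ofHom (BlowExist.trans I hUS)) ≫ BlowExist.ι I _).base z
  rw [BlowExist.ι_trans, BlowExist.ι_trans]

theorem perfect_chart {m : ℕ} (a : Fin (m + 1) → A) (hI : Ideal.span (Set.range a) = I)
    (h : KoszulExt.IsExact fun i => (MvPolynomial.C (a i) : MvPolynomial (Fin m) A)) :
    MoreMor.IsPerfectHom A (BlowExist.chart I {a 0}) := by
  classical
  let L := Localization.Away (∏ s ∈ ({a 0} : Finset A), s)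
  have : IsLocalization.Away (a 0) L := by
    have h1 : (∏ s ∈ ({a 0} : Finset A), s) = a 0 := Finset.prod_singleton _ _
    exact (congrArg (fun t => IsLocalization.Away t L) h1).mp inferInstance
  let φ : MvPolynomial (Fin m) A →ₐ[A] L := MvPolynomial.aeval (frac a L)
  have hspec : ∀ j, algebraMap A L (a 0) * frac a L j = algebraMap A L (a j.succ) := fun j =>
    IsLocalization.mk'_spec' L (a j.succ) (⟨a 0, Submonoid.mem_powers _⟩ : Submonoid.powers (a 0))
  have hrange : φ.range = BlowExist.chart I {a 0} := by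
    rw [← Algebra.adjoin_range_eq_range_aeval, BlowExist.chart]
    refine le_antisymm (Algebra.adjoin_mono ?_) (Algebra.adjoin_le ?_)
    · rintro _ ⟨j, rfl⟩
      exact ⟨a 0, Finset.mem_singleton_self _, a j.succ, hI.le (Ideal.subset_span ⟨_, rfl⟩), hspec j⟩
    · rintro z ⟨s, hs, x, hx, hz⟩
      obtain rfl := Finset.mem_singleton.1 hs
      obtain ⟨c, rfl⟩ := Ideal.mem_span_range_iff_exists_fun.1 (hI.ge hx)
      have hz' : z = algebraMap A L (c 0) + ∑ j, algebraMap A L (c j.succ) * frac a L j := by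
        refine (IsLocalization.Away.algebraMap_isUnit (S := L) (a 0)).mul_left_cancel ?_
        rw [hz, Fin.sum_univ_succ, map_add, map_sum, mul_add, Finset.mul_sum]
        simp only [map_mul, mul_left_comm (algebraMap A L (a 0)) _ (frac a L _), hspec]
        ring
      rw [hz']
      exact add_mem (Subalgebra.algebraMap_mem _ _)
        (sum_mem fun j _ => mul_mem (Subalgebra.algebraMap_mem _ _) (Algebra.subset_adjoin ⟨j, rfl⟩))
  let ψ : MvPolynomial (Fin m) A →ₐ[A] BlowExist.chart I {a 0} :=
    (Subalgebra.equivOfEq _ _ hrange).toAlgHom.comp φ.rangeRestrict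
  have hψ : Function.Surjective ψ := (Subalgebra.equivOfEq _ _ hrange).surjective.comp φ.rangeRestrict_surjective
  have hψk : RingHom.ker ψ.toRingHom = Ideal.span (Set.range (eqn a)) := by
    rw [← ker_aeval_frac (L := L) a h]
    ext x
    rw [RingHom.mem_ker, RingHom.mem_ker]
    exact ⟨fun hx => congrArg Subtype.val hx, fun hx => Subtype.ext hx⟩
  let := ψ.toRingHom.toAlgebra
  have h1 : PCHom.PfQ ψ.toRingHom := by
    refine PCHom.isPerfectHom_of_surjective _ _ hψ ?_
    refine PerfHom.isPerfectModule_congr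
      (((Submodule.quotEquivOfEq (Ideal.span {x | x ∈ List.ofFn (eqn a)})
          (RingHom.ker (Algebra.ofId (MvPolynomial (Fin m) A) (BlowExist.chart I {a 0}))) ?_)).trans
        (Ideal.quotientKerAlgEquivOfSurjective (f := Algebra.ofId (MvPolynomial (Fin m) A) _) hψ).toLinearEquiv)
      (PerfHom.isPerfectModule_quotient_span _ ((KoszulExt.isExact_iff _).1 (isExact_eqn a h)))
    refine Eq.trans ?_ hψk.symm
    congr 1
    ext x
    simp [List.mem_ofFn, eq_comm]
  have h2 : PCHom.PfQ (algebraMap A (MvPolynomial (Fin m) A)) :=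
    (PCHom.pfQ_algebraMap _ _).2 PCHom.isPerfectHom_of_flat_fp
  have h3 := PCHom.pfQ_comp h2 h1
  rw [show ψ.toRingHom.comp (algebraMap A (MvPolynomial (Fin m) A)) = algebraMap A (BlowExist.chart I {a 0}) from
    ψ.comp_algebraMap] at h3
  exact (PCHom.pfQ_algebraMap _ _).1 h3

theorem perfect_toBase (rs : List A) (hrs : RingTheory.Sequence.IsWeaklyRegular A rs) (hI : I = Ideal.ofList rs) :
    MoreMor.IsPerfectMor (BlowExist.toBase I) := by
  classical
  have hI' : Ideal.span (Set.range rs.get) = I := by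
    rw [hI, Ideal.ofList]
    congr 1
    exact Set.ext fun x => List.mem_iff_get.symm
  have key : ∀ (j : Fin rs.length) (hj : rs.get j ∈ I),
      MoreMor.IsPerfectHom A (BlowExist.chart I (BlowExist.Idx.single I hj).carrier) := by
    intro j hj
    obtain ⟨m, hm⟩ : ∃ m, rs.length = m + 1 := ⟨rs.length - 1, by have := j.2; omega⟩
    let σ : Fin (m + 1) ≃ Fin rs.length := (Equiv.swap 0 (Fin.cast hm j)).trans (finCongr hm.symm)
    have h0 : σ 0 = j := by simp [σ]
    have hw : RingTheory.Sequence.IsWeaklyRegular (MvPolynomial (Fin m) A)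
        (List.ofFn fun i => (MvPolynomial.C (rs.get i) : MvPolynomial (Fin m) A)) := by
      have h1 := hrs.of_flat (S := MvPolynomial (Fin m) A)
      have h2 : rs.map (algebraMap A (MvPolynomial (Fin m) A)) = List.ofFn fun i => MvPolynomial.C (rs.get i) := by
        conv_lhs => rw [← List.ofFn_get rs]
        rw [List.map_ofFn]
        rfl
      rwa [h2] at h1
    have hex := ((KoszulExt.isExact_iff _).2 (KoszulExt.isKoszulRegularSeq_of_isWeaklyRegular hw)).reindex σ
    have h3 := perfect_chart I (fun i => rs.get (σ i))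
      (by rw [← hI']; congr 1; exact σ.surjective.range_comp rs.get) hex
    change MoreMor.IsPerfectHom A (BlowExist.chart I {rs.get (σ 0)}) at h3
    rw [h0] at h3
    exact h3
  choose j hj hy using exists_mem_range_single I rs.get hI'
  let 𝒱 : (BlowExist.blow I).OpenCover :=
    { I₀ := BlowExist.blow I
      X := fun y => Spec (CommRingCat.of (BlowExist.chart I (BlowExist.Idx.single I (hj y)).carrier))
      f := fun y => BlowExist.ι I (BlowExist.Idx.single I (hj y))
      mem₀ := by
        rw [Scheme.presieve₀_mem_precoverage_iff]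
        exact ⟨fun y => ⟨y, hy y⟩, fun y => inferInstance⟩ }
  refine IsZariskiLocalAtSource.of_openCover (P := PCHom.pfMor.{u}) 𝒱 fun y => ?_
  show PCHom.pfMor (BlowExist.ι I (BlowExist.Idx.single I (hj y)) ≫ BlowExist.toBase I)
  rw [BlowExist.ι_toBase, HasRingHomProperty.Spec_iff (P := PCHom.pfMor.{u})]
  exact (PCHom.pfQ_algebraMap _ _).2 (key _ (hj y))

end Affine

/-- The blowing-up of a regular closed immersion is perfect. -/
theorem isPerfectMor_blowUp {Y X X' : Scheme.{u}} (i : Y ⟶ X) (hi : Mor2.IsRegularClosedImmersion i)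
    (f : X' ⟶ X) (hf : BlowUp.IsBlowUp f i.ker) : MoreMor.IsPerfectMor f := by
  obtain ⟨hci, hreg⟩ := hi
  have hloc : ∀ x : X, ∃ (U : X.affineOpens), x ∈ U.1 ∧
      ∃ rs : List Γ(X, U.1), RingTheory.Sequence.IsWeaklyRegular Γ(X, U.1) rs ∧ i.ker.ideal U = Ideal.ofList rs := by
    intro x
    by_cases hx : x ∈ Set.range i.base
    · obtain ⟨z, rfl⟩ := hx
      obtain ⟨U, hU, hz, rs, hrs, hker⟩ := hreg z
      exact ⟨⟨U, hU⟩, hz, rs, hrs.toIsWeaklyRegular, hker⟩
    · obtain ⟨U, hU, hxU, hsub⟩ := exists_isAffineOpen_mem_and_subset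
        (U := (⟨(Set.range i.base)ᶜ, i.isClosedEmbedding.isClosed_range.isOpen_compl⟩ : X.Opens)) (x := x) hx
      refine ⟨⟨U, hU⟩, hxU, [1], ?_, ?_⟩
      · rw [RingTheory.Sequence.isWeaklyRegular_singleton_iff]
        exact fun p q h => by simpa using h
      · rw [show Ideal.ofList [(1 : Γ(X, U))] = ⊤ by simp [Ideal.ofList]]
        by_contra hne
        obtain ⟨p, hp, hle⟩ := Ideal.exists_le_maximal _ hne
        let q : Spec Γ(X, U) := ⟨p, hp.isPrime⟩
        have h1 : hU.fromSpec q ∈ X.zeroLocus (U := U) (i.ker.ideal ⟨U, hU⟩) := by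
          have h2 : q ∈ hU.fromSpec ⁻¹' X.zeroLocus (U := U) (i.ker.ideal ⟨U, hU⟩) := by
            rw [hU.fromSpec_preimage_zeroLocus]
            exact hle
          exact h2
        have h3 : hU.fromSpec q ∈ (U : Set X) := hU.range_fromSpec ▸ ⟨q, rfl⟩
        have h4 : hU.fromSpec q ∈ i.ker.support :=
          (Scheme.IdealSheafData.mem_support_iff_of_mem (U := ⟨U, hU⟩) h3).2 h1
        rw [← SetLike.mem_coe, Scheme.Hom.support_ker, i.isClosedEmbedding.isClosed_range.closure_eq] at h4
        exact hsub h3 h4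
  choose U hU rs hrs hker using hloc
  let 𝒰 : X.OpenCover :=
    { I₀ := X, X := fun x => Spec Γ(X, (U x).1), f := fun x => (U x).2.fromSpec
      mem₀ := by
        rw [Scheme.presieve₀_mem_precoverage_iff]
        exact ⟨fun x => ⟨x, (U x).2.range_fromSpec ▸ hU x⟩, fun x => inferInstance⟩ }
  refine IsZariskiLocalAtTarget.of_openCover (P := PCHom.pfMor.{u}) 𝒰 fun x => ?_
  have h1 := BlowExist.isBlowUp_fst hf (U x).2.fromSpec
  rw [BlowExist.comap_fromSpec] at h1
  obtain ⟨e, he⟩ := ModPairLib.exists_iso_of_isBlowUp h1 (BlowExist.isBlowUp_toBase _)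
  show PCHom.pfMor (pullback.snd f (U x).2.fromSpec)
  rw [← pullbackSymmetry_hom_comp_fst, ← he, ← Category.assoc,
    MorphismProperty.cancel_left_of_respectsIso PCHom.pfMor]
  exact perfect_toBase _ (rs x) (hrs x) (hker x)

end Groth.Agent.BlowPerfect
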